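import Cfsg.Agent.H860.TwoJ4
import Cfsg.Agent.H370.LemFMin
import Cfsg.Agent.H370.Chief
import Cfsg.Agent.S1703

/-!
# The fourth Janko group: 2-elements and a 2-group with an element of order 31 (helper370)
-/

set_option autoImplicit false

namespace Cfsg.Agent.H370.JElem

open Cfsg Cfsg.Agent.Lib.F2MatGroup Cfsg.Agent.J4.Rep112 Cfsg.Agent.J4.Lower Cfsg.Agent.J4.LowerData
open Subgroup

theorem isJ4 : Cfsg.IsJ4 Cfsg.Spor.J4 := Cfsg.Agent.S1703.result

theorem card_J4 : Nat.card Cfsg.Spor.J4 = 86775571046077562880 := isJ4.2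

instance simple_J4 : IsSimpleGroup Cfsg.Spor.J4 := isJ4.1

instance finite_J4 : Finite Cfsg.Spor.J4 := Nat.finite_of_card_ne_zero (by rw [card_J4]; norm_num)

/-! ### the explicit elements -/

def slp31 : List (List ℕ) := [[0, 2, 10], [17, 15, 17], [18, 17, 18], [1, 2, 0], [0, 3], [4, 1], [20, 5, 21], [2, 2, 2],
  [2, 2, 2], [22, 23, 22, 24, 22, 24, 22, 23, 22, 24, 22, 23, 22, 23, 22, 8, 2, 1],
  [1, 3, 9, 23, 25, 23, 25, 23, 24, 23, 25, 23, 24, 23, 24, 23, 25, 23], [12, 14, 21], [2, 0, 1], [3, 0, 2], [4, 0, 3],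
  [5, 0, 4], [6, 0, 5], [7, 7], [0, 0], [0, 0], [0, 0]]

def eqs31 : List (List ℕ × List ℕ) := [([0, 1, 2, 3, 11], []), ([11, 10], []), ([9, 9], []), ([9, 8], [8, 9]),
  ([9, 7], [7, 9]), ([9, 6], [6, 9]), ([9, 5], [5, 9]), ([4], [9, 8, 7, 5])]

def neqs31 : List (List ℕ × List ℕ) := [([9], []), ([11], [])]

theorem check31 : Cfsg.Agent.Lib.F2MatGroup.check 112 codes (slpQ ++ slp31) eqs31 neqs31 = true := by decide +kernel

noncomputable def L31 : List (GL (Fin 112) (ZMod 2)) := runG slp31 (runG slpQ mgens)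

theorem eq31 : ∀ p ∈ eqs31, evG L31 p.1 = evG L31 p.2 := by
  have h := (check_sound (n := 112) (by norm_num) codes_gens check31).1
  rw [Cfsg.Agent.J4.Classes.runG_append] at h
  exact h

theorem ne31 : ∀ p ∈ neqs31, evG L31 p.1 ≠ evG L31 p.2 := by
  have h := (check_sound (n := 112) (by norm_num) codes_gens check31).2
  rw [Cfsg.Agent.J4.Classes.runG_append] at h
  exact h

theorem L31_mem : ∀ g ∈ L31, g ∈ rho.range := runG_mem _ (runG_mem _ mgens_mem slpQ) slp31

/-! ### faithfulness -/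

theorem rho_injective : Function.Injective rho := by
  have h := simple_J4
  rw [← MonoidHom.ker_eq_bot_iff]
  rcases (inferInstance : rho.ker.Normal).eq_bot_or_eq_top with h1 | h1
  · exact h1
  · exfalso
    obtain ⟨u, hu⟩ := getG_mem rho.range L31_mem 11
    apply ne31 ([11], []) (by decide)
    have h2 : u ∈ rho.ker := h1 ▸ mem_top u
    rw [MonoidHom.mem_ker, hu] at h2
    rw [evG_cons, evG_nil, h2, mul_one]

theorem not_dvd22 : ¬ 2 ^ 22 ∣ Nat.card rho.range := by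
  rw [Nat.card_congr (MonoidHom.ofInjective rho_injective).symm.toEquiv, card_J4]
  norm_num

/-! ### 2-elements -/

theorem two_elem (g : Cfsg.Spor.J4) {k : ℕ} (hg : g ^ 2 ^ k = 1) : orderOf g ∣ 16 := by
  obtain ⟨i, hi, c, hc, h⟩ := H860.FusTen.range_two not_dvd22 (rho g) ⟨g, rfl⟩ (n := k) (by
    rw [← map_pow, hg, map_one])
  have h1 : orderOf g = orderOf (H860.FusTen.rep i) := by
    rw [← h, ← orderOf_injective rho rho_injective g]
    exact ((MulAut.conj c).orderOf_eq _).symm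
  rw [h1, H860.TenNon.order_rep i hi]
  have key : ∀ i < 10, (H860.TenNon.tab.getD i (0, 0)).1 ∣ 16 := by decide
  exact key i hi

theorem exists16 : ∃ g : Cfsg.Spor.J4, orderOf g = 16 := by
  obtain ⟨g, hg⟩ := H860.TenNon.rep_mem 9
  refine ⟨g, ?_⟩
  rw [← orderOf_injective rho rho_injective g, hg, H860.TenNon.order_rep 9 (by norm_num)]
  rfl

/-! ### 31 on a 2-group -/

theorem two31_of {J : Type*} [Group J] [Finite J] {u w : J} (h31 : u ^ 31 = 1) (hu : u ≠ 1) (hw : w * w = 1)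
    (hw1 : w ≠ 1) (a : ℕ → J) (ha : ∀ i, a i = u ^ i * w * (u ^ i)⁻¹)
    (hc : ∀ k, 1 ≤ k → k ≤ 4 → w * a k = a k * w) (hrel : a 5 = w * a 1 * a 2 * a 4) :
    ∃ (D : Subgroup J) (y : J), (∀ d ∈ D, d ^ 2 = 1) ∧ D ≠ ⊥ ∧ orderOf y = 31 ∧ y ∈ normalizer (D : Set J) := by
  have ha0 : a 0 = w := by rw [ha]; simp
  have hstep : ∀ i, u * a i * u⁻¹ = a (i + 1) := by
    intro i
    rw [ha, ha, pow_succ']
    group
  have hcomm : ∀ i j, i ≤ 4 → j ≤ 4 → a i * a j = a j * a i := by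
    have key : ∀ i k, i + k ≤ 4 → a i * a (i + k) = a (i + k) * a i := by
      intro i k hik
      rcases Nat.eq_zero_or_pos k with rfl | hk
      · rfl
      · have h1 := hc k hk (by omega)
        have h2 : a i = u ^ i * w * (u ^ i)⁻¹ := ha i
        have h3 : a (i + k) = u ^ i * a k * (u ^ i)⁻¹ := by
          rw [ha, ha, pow_add]
          group
        rw [h2, h3]
        calc u ^ i * w * (u ^ i)⁻¹ * (u ^ i * a k * (u ^ i)⁻¹) = u ^ i * (w * a k) * (u ^ i)⁻¹ := by group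
          _ = u ^ i * (a k * w) * (u ^ i)⁻¹ := by rw [h1]
          _ = _ := by group
    intro i j hi hj
    rcases le_total i j with h | h
    · obtain ⟨k, rfl⟩ := Nat.exists_eq_add_of_le h
      exact key i k hj
    · obtain ⟨k, rfl⟩ := Nat.exists_eq_add_of_le h
      exact (key j k hi).symm
  have hsq : ∀ i, a i ^ 2 = 1 := by
    intro i
    rw [ha, conj_pow, pow_two, hw, mul_one, mul_inv_cancel]
  let D : Subgroup J := closure {x | ∃ i ≤ 4, x = a i}
  have hmem : ∀ i, i ≤ 4 → a i ∈ D := fun i hi => subset_closure ⟨i, hi, rfl⟩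
  have hD1 : ∀ d ∈ D, ∀ i ≤ 4, d * a i = a i * d := by
    intro d hd i hi
    induction hd using closure_induction with
    | mem x hx =>
      obtain ⟨j, hj, rfl⟩ := hx
      exact hcomm j i hj hi
    | one => simp
    | mul x y _ _ hx hy => rw [mul_assoc, hy, ← mul_assoc, hx, mul_assoc]
    | inv x _ hx =>
      calc x⁻¹ * a i = x⁻¹ * (a i * x) * x⁻¹ := by group
        _ = x⁻¹ * (x * a i) * x⁻¹ := by rw [hx]
        _ = a i * x⁻¹ := by group
  have hD2 : ∀ d ∈ D, ∀ e ∈ D, d * e = e * d := by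
    intro d hd e he
    induction he using closure_induction with
    | mem x hx =>
      obtain ⟨j, hj, rfl⟩ := hx
      exact hD1 d hd j hj
    | one => simp
    | mul x y _ _ hx hy => rw [← mul_assoc, hx, mul_assoc, hy, ← mul_assoc]
    | inv x _ hx =>
      calc d * x⁻¹ = x⁻¹ * (x * d) * x⁻¹ := by group
        _ = x⁻¹ * (d * x) * x⁻¹ := by rw [hx]
        _ = x⁻¹ * d := by group
  have hD3 : ∀ d ∈ D, d ^ 2 = 1 := by
    intro d hd
    induction hd using closure_induction with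
    | mem x hx =>
      obtain ⟨j, hj, rfl⟩ := hx
      exact hsq j
    | one => simp
    | mul x y hx' hy' hx hy => rw [(show Commute x y from hD2 x hx' y hy').mul_pow, hx, hy, one_mul]
    | inv x _ hx => rw [inv_pow, hx, inv_one]
  have : Fact (Nat.Prime 31) := ⟨by norm_num⟩
  refine ⟨D, u, hD3, ?_, orderOf_eq_prime h31 hu, ?_⟩
  · intro h
    have h1 := hmem 0 (by norm_num)
    rw [ha0, h, mem_bot] at h1
    exact hw1 h1
  · apply LemF.mem_normalizer_of_forall
    intro d hd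
    induction hd using closure_induction with
    | mem x hx =>
      obtain ⟨j, hj, rfl⟩ := hx
      rw [hstep]
      rcases Nat.lt_or_ge j 4 with h | h
      · exact hmem (j + 1) (by omega)
      · have : j = 4 := by omega
        subst this
        rw [hrel, ← ha0]
        exact mul_mem (mul_mem (mul_mem (hmem 0 (by norm_num)) (hmem 1 (by norm_num))) (hmem 2 (by norm_num)))
          (hmem 4 (by norm_num))
    | one => simp
    | mul x y _ _ hx hy =>
      have : u * (x * y) * u⁻¹ = (u * x * u⁻¹) * (u * y * u⁻¹) := by group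
      rw [this]
      exact mul_mem hx hy
    | inv x _ hx =>
      have : u * x⁻¹ * u⁻¹ = (u * x * u⁻¹)⁻¹ := by group
      rw [this]
      exact inv_mem hx

theorem two31 : ∃ (D : Subgroup Cfsg.Spor.J4) (y : Cfsg.Spor.J4), (∀ d ∈ D, d ^ 2 = 1) ∧ D ≠ ⊥ ∧ orderOf y = 31 ∧
    y ∈ normalizer (D : Set Cfsg.Spor.J4) := by
  obtain ⟨u, hu⟩ := getG_mem rho.range L31_mem 11
  obtain ⟨w, hw⟩ := getG_mem rho.range L31_mem 9
  have g2 : getG L31 3 = getG L31 11 * (getG L31 11 * 1) := rfl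
  have g4 : getG L31 2 = getG L31 3 * (getG L31 3 * 1) := rfl
  have g8 : getG L31 1 = getG L31 2 * (getG L31 2 * 1) := rfl
  have g16 : getG L31 0 = getG L31 1 * (getG L31 1 * 1) := rfl
  have a1 : getG L31 8 = getG L31 11 * (getG L31 9 * (getG L31 10 * 1)) := rfl
  have a2 : getG L31 7 = getG L31 11 * (getG L31 8 * (getG L31 10 * 1)) := rfl
  have a3 : getG L31 6 = getG L31 11 * (getG L31 7 * (getG L31 10 * 1)) := rfl
  have a4 : getG L31 5 = getG L31 11 * (getG L31 6 * (getG L31 10 * 1)) := rfl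
  have a5 : getG L31 4 = getG L31 11 * (getG L31 5 * (getG L31 10 * 1)) := rfl
  have e0 := eq31 ([0, 1, 2, 3, 11], []) (by decide)
  have e1 := eq31 ([11, 10], []) (by decide)
  have e2 := eq31 ([9, 9], []) (by decide)
  have e3 := eq31 ([9, 8], [8, 9]) (by decide)
  have e4 := eq31 ([9, 7], [7, 9]) (by decide)
  have e5 := eq31 ([9, 6], [6, 9]) (by decide)
  have e6 := eq31 ([9, 5], [5, 9]) (by decide)
  have e7 := eq31 ([4], [9, 8, 7, 5]) (by decide)
  have n0 := ne31 ([9], []) (by decide)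
  have n1 := ne31 ([11], []) (by decide)
  simp only [evG_cons, evG_nil, mul_one] at e0 e1 e2 e3 e4 e5 e6 e7 n0 n1 g2 g4 g8 g16 a1 a2 a3 a4 a5
  have hgi : getG L31 10 = (getG L31 11)⁻¹ := (inv_eq_of_mul_eq_one_right e1).symm
  rw [hgi, ← hu] at a1 a2 a3 a4 a5
  rw [← hu] at g2 n1 e0
  rw [← hw] at a1 e2 e3 e4 e5 e6 e7 n0
  have b1 : getG L31 8 = rho (u ^ 1 * w * (u ^ 1)⁻¹) := by
    rw [a1]; simp only [map_mul, map_inv, pow_one, mul_assoc]
  have b2 : getG L31 7 = rho (u ^ 2 * w * (u ^ 2)⁻¹) := by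
    rw [a2, b1, ← map_inv, ← map_mul, ← map_mul]; congr 1; group
  have b3 : getG L31 6 = rho (u ^ 3 * w * (u ^ 3)⁻¹) := by
    rw [a3, b2, ← map_inv, ← map_mul, ← map_mul]; congr 1; group
  have b4 : getG L31 5 = rho (u ^ 4 * w * (u ^ 4)⁻¹) := by
    rw [a4, b3, ← map_inv, ← map_mul, ← map_mul]; congr 1; group
  have b5 : getG L31 4 = rho (u ^ 5 * w * (u ^ 5)⁻¹) := by
    rw [a5, b4, ← map_inv, ← map_mul, ← map_mul]; congr 1; group
  have inj := rho_injective
  refine two31_of (u := u) (w := w) ?_ ?_ ?_ ?_ (fun i => u ^ i * w * (u ^ i)⁻¹) (fun i => rfl) ?_ ?_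
  · apply inj
    rw [g16, g8, g4, g2, ← map_mul, ← map_mul, ← map_mul, ← map_mul, ← map_mul, ← map_mul, ← map_mul, ← map_mul] at e0
    rw [map_one, ← e0]
    congr 1
    simp only [pow_succ, pow_zero, one_mul, mul_assoc]
  · rintro rfl
    exact n1 (map_one _)
  · apply inj
    rw [map_mul, map_one]
    exact e2
  · rintro rfl
    exact n0 (map_one _)
  · intro k hk1 hk4
    apply inj
    rw [map_mul rho w, map_mul rho _ w]
    have hk : k = 1 ∨ k = 2 ∨ k = 3 ∨ k = 4 := by omega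
    rcases hk with rfl | rfl | rfl | rfl
    · rw [← b1]; exact e3
    · rw [← b2]; exact e4
    · rw [← b3]; exact e5
    · rw [← b4]; exact e6
  · apply inj
    have h1 : w * (u ^ 1 * w * (u ^ 1)⁻¹) * (u ^ 2 * w * (u ^ 2)⁻¹) * (u ^ 4 * w * (u ^ 4)⁻¹) =
        w * ((u ^ 1 * w * (u ^ 1)⁻¹) * ((u ^ 2 * w * (u ^ 2)⁻¹) * (u ^ 4 * w * (u ^ 4)⁻¹))) := by
      simp only [mul_assoc]
    rw [h1, map_mul rho w, map_mul rho (u ^ 1 * w * (u ^ 1)⁻¹), map_mul rho (u ^ 2 * w * (u ^ 2)⁻¹), ← b1, ← b2, ← b4,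
      ← b5, e7]

end Cfsg.Agent.H370.JElem
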